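import Mathlib

/-! Flatness descends along injective maps out of a ring with nilpotent maximal ideal. -/

universe u v w

open TensorProduct

namespace Groth.Agent.FlatInjDesc

/-- A vector of the kernel of a surjection onto a flat module which lies in `J F` lies in `J K`. -/
theorem mem_smul_ker {R : Type u} [CommRing R] {F : Type v} {M : Type w} [AddCommGroup F] [Module R F]
    [AddCommGroup M] [Module R M] [Module.Flat R M] (f : F →ₗ[R] M) (hf : Function.Surjective f)
    (J : Ideal R) {x : F} (hx : f x = 0) (hJ : x ∈ J • (⊤ : Submodule R F)) :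
    x ∈ J • LinearMap.ker f := by
  obtain ⟨y, hy⟩ : ∃ y : J ⊗[R] F, TensorProduct.lid R F (J.subtype.rTensor F y) = x := by
    refine Submodule.smul_induction_on hJ (fun a ha z _ => ⟨⟨a, ha⟩ ⊗ₜ z, by simp⟩) ?_
    rintro _ _ ⟨y₁, rfl⟩ ⟨y₂, rfl⟩
    exact ⟨y₁ + y₂, by simp⟩
  have hcomm : ∀ z : J ⊗[R] F,
      TensorProduct.lid R M (J.subtype.rTensor M (f.lTensor J z)) = f (TensorProduct.lid R F (J.subtype.rTensor F z)) := by
    intro z
    induction z using TensorProduct.induction_on with
    | zero => simp
    | tmul a b => simp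
    | add a b ha hb => simp only [map_add, ha, hb]
  have h0 : f.lTensor J y = 0 := by
    apply Module.Flat.rTensor_preserves_injective_linearMap (M := M) J.subtype J.injective_subtype
    apply (TensorProduct.lid R M).injective
    rw [hcomm, hy, hx, map_zero, map_zero]
  obtain ⟨z, rfl⟩ := (lTensor_exact J (LinearMap.exact_subtype_ker_map f) hf y).1 h0
  rw [← hy]
  clear hy h0 hcomm
  induction z using TensorProduct.induction_on with
  | zero => simp
  | tmul a k =>
    simp only [LinearMap.lTensor_tmul, LinearMap.rTensor_tmul, Submodule.coe_subtype, lid_tmul]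
    exact Submodule.smul_mem_smul a.2 k.2
  | add a b ha hb => simp only [map_add]; exact add_mem ha hb

theorem flat_of_injective {A : Type u} {A' : Type v} [CommRing A] [CommRing A'] [Algebra A A']
    (hinj : Function.Injective (algebraMap A A')) (m : Ideal A) [m.IsMaximal] (hm : IsNilpotent m)
    (M : Type w) [AddCommGroup M] [Module A M] [Module.Flat A' (A' ⊗[A] M)] : Module.Flat A M := by
  classical
  obtain ⟨N, hN⟩ := hm
  let _ := Ideal.Quotient.field m
  let b := Module.Free.chooseBasis (A ⧸ m) (M ⧸ (m • ⊤ : Submodule A M))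
  let ι := Module.Free.ChooseBasisIndex (A ⧸ m) (M ⧸ (m • ⊤ : Submodule A M))
  choose x hx using fun i => Submodule.Quotient.mk_surjective (m • ⊤ : Submodule A M) (b i)
  let f : (ι →₀ A) →ₗ[A] M := Finsupp.linearCombination A x
  let g := (m • ⊤ : Submodule A M).mkQ.comp f
  let red : (ι →₀ A) →ₗ[A] (ι →₀ A ⧸ m) := Finsupp.mapRange.linearMap (Ideal.Quotient.mkₐ A m).toLinearMap
  have hg : g = ((b.repr.symm : (ι →₀ A ⧸ m) →ₗ[A ⧸ m] _).restrictScalars A).comp red := by
    refine Finsupp.lhom_ext fun i a => ?_
    simp only [g, f, red, LinearMap.comp_apply, Submodule.mkQ_apply, Finsupp.linearCombination_single,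
      Submodule.Quotient.mk_smul, hx, LinearMap.restrictScalars_apply, Finsupp.mapRange.linearMap_apply,
      Finsupp.mapRange_single, LinearEquiv.coe_coe, Module.Basis.repr_symm_single]
    rfl
  have hkerred : ∀ v, red v = 0 → v ∈ m • (⊤ : Submodule A (ι →₀ A)) := by
    intro v hv
    rw [← Finsupp.sum_single v]
    refine Submodule.sum_mem _ fun i _ => ?_
    have : v i ∈ m := Ideal.Quotient.eq_zero_iff_mem.1 (by
      have := DFunLike.congr_fun hv i
      simpa [red] using this)
    rw [← mul_one (v i), ← smul_eq_mul, ← Finsupp.smul_single]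
    exact Submodule.smul_mem_smul this trivial
  have hgker : ∀ v, g v = 0 → v ∈ m • (⊤ : Submodule A (ι →₀ A)) := fun v hv => hkerred v (by
    rw [hg] at hv
    exact b.repr.symm.injective (hv.trans (map_zero b.repr.symm).symm))
  have hgs : Function.Surjective g := by
    rw [hg]
    exact b.repr.symm.surjective.comp (Finsupp.mapRange_surjective _ (map_zero _) Ideal.Quotient.mk_surjective)
  have hfs : Function.Surjective f := by
    have htop : ∀ k, LinearMap.range f ⊔ m ^ k • (⊤ : Submodule A M) = ⊤ := by
      intro k
      induction k with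
      | zero => simp
      | succ k ih =>
        refine le_antisymm le_top (ih.ge.trans (sup_le le_sup_left ?_))
        have h1 : LinearMap.range f ⊔ m • (⊤ : Submodule A M) = ⊤ := eq_top_iff.2 fun y _ => by
          obtain ⟨v, hv⟩ := hgs (Submodule.Quotient.mk y)
          exact Submodule.mem_sup.2 ⟨f v, ⟨v, rfl⟩, y - f v, (Submodule.Quotient.eq _).1 hv.symm, by abel⟩
        conv_lhs => rw [← h1]
        rw [Submodule.smul_sup, ← Submodule.mul_smul, ← pow_succ]
        exact sup_le_sup_right Submodule.smul_le_right _
    have := htop N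
    rw [hN, Ideal.zero_eq_bot, Submodule.bot_smul, sup_bot_eq] at this
    exact LinearMap.range_eq_top.1 this
  let f' := f.baseChange A'
  have hf's : Function.Surjective f' := LinearMap.lTensor_surjective A' hfs
  let J : Ideal A' := m.map (algebraMap A A')
  have hker : LinearMap.ker f' ≤ J • LinearMap.ker f' := by
    intro z hz
    refine mem_smul_ker f' hf's J hz ?_
    have hz' : g.lTensor A' z = 0 := by
      show (Submodule.mkQ _ ∘ₗ f).lTensor A' z = 0
      rw [LinearMap.lTensor_comp, LinearMap.comp_apply]
      show (m • ⊤ : Submodule A M).mkQ.lTensor A' ((f.lTensor A') z) = 0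
      rw [show f.lTensor A' z = 0 from hz, map_zero]
    have hex : Function.Exact (LinearMap.ker g).subtype g := LinearMap.exact_subtype_ker_map g
    obtain ⟨y, rfl⟩ := ((lTensor_exact (R := A) (M := ↥(LinearMap.ker g)) (N := ι →₀ A) (P := M ⧸ (m • ⊤ : Submodule A M)) (f := (LinearMap.ker g).subtype) (g := g) A' hex hgs) z).1 hz'
    clear hz hz'
    induction y using TensorProduct.induction_on with
    | zero => simp
    | tmul a v =>
      rw [LinearMap.lTensor_tmul]
      have hv : (v : ι →₀ A) ∈ m • (⊤ : Submodule A (ι →₀ A)) := hgker v.1 v.2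
      show a ⊗ₜ[A] (v : ι →₀ A) ∈ _
      refine Submodule.smul_induction_on hv (fun c hc w _ => ?_) (fun p q hp hq => ?_)
      · rw [TensorProduct.tmul_smul, ← IsScalarTower.algebraMap_smul A' c]
        exact Submodule.smul_mem_smul (Ideal.mem_map_of_mem _ hc) trivial
      · rw [TensorProduct.tmul_add]; exact add_mem hp hq
    | add p q hp hq => rw [map_add]; exact add_mem hp hq
  have hker0 : LinearMap.ker f' = ⊥ := by
    have h : ∀ k, LinearMap.ker f' ≤ J ^ k • LinearMap.ker f' := by
      intro k
      induction k with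
      | zero => simp
      | succ k ih =>
        refine ih.trans ?_
        rw [pow_succ, Submodule.mul_smul]
        exact Submodule.smul_mono le_rfl hker
    refine le_bot_iff.1 ((h N).trans ?_)
    rw [← Ideal.map_pow, hN, Ideal.zero_eq_bot, Ideal.map_bot, Submodule.bot_smul]
  have hfi : Function.Injective f := by
    rw [injective_iff_map_eq_zero]
    intro v hv
    have h1 : f' ((1 : A') ⊗ₜ v) = 0 := by
      rw [LinearMap.baseChange_tmul, hv, TensorProduct.tmul_zero]
    have h2 : (Algebra.linearMap A A').rTensor (ι →₀ A) ((1 : A) ⊗ₜ v) = 0 := by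
      rw [LinearMap.rTensor_tmul, Algebra.linearMap_apply, map_one]
      rw [← LinearMap.mem_ker, hker0, Submodule.mem_bot] at h1
      exact h1
    have h3 := Module.Flat.rTensor_preserves_injective_linearMap (M := (ι →₀ A)) (Algebra.linearMap A A') hinj
      (h2.trans (map_zero _).symm)
    simpa using congrArg (TensorProduct.lid A (ι →₀ A)) h3
  exact Module.Flat.of_linearEquiv (LinearEquiv.ofBijective f ⟨hfi, hfs⟩).symm

end Groth.Agent.FlatInjDesc
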